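import Cfsg.Agent.H714.SmallIndex
import Cfsg.Agent.H713.Spor.Tool
import Cfsg.Agent.H690.LieGood
import Cfsg.Agent.H374.SpFour
import Cfsg.Agent.H356.KillPSp
import Cfsg.Agent.S2600
import Cfsg.Agent.S0270

/-!
# The row of `PSp₄(4)` for S4943 (helper714)
-/

set_option autoImplicit false

namespace Cfsg.Agent.H714.PSpFour

open Cfsg Cfsg.Agent.H713 Cfsg.Agent.H665.NoPQ Cfsg.Agent.H713.Count

universe u v

section field

variable {F : Type v} [Field F] [Fintype F]

theorem card_four (hF : Fintype.card F = 4) : Nat.card (PSp 2 F) = 979200 := by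
  have h := Cfsg.Agent.H356.KillPSp.card (F := F) (m := 2) (by norm_num)
  rw [hF] at h
  norm_num [Finset.prod_range_succ] at h
  omega

theorem char_two (hF : Fintype.card F = 4) : CharP F 2 := by
  obtain ⟨p, hp⟩ := CharP.exists F
  obtain ⟨n, hp1, hn⟩ := FiniteField.card F p
  have h1 : p ∣ 4 := by
    rw [← hF, hn]
    exact dvd_pow_self _ n.ne_zero
  have h2 : p ∣ 2 := hp1.dvd_of_dvd_pow (n := 2) (by simpa using h1)
  have h3 := (Nat.prime_dvd_prime_iff_eq hp1 Nat.prime_two).1 h2
  subst h3
  exact hp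

theorem ringChar_two (hF : Fintype.card F = 4) : ringChar F = 2 := by
  have := char_two hF
  exact ringChar.eq F 2 ▸ rfl

theorem exists_order_iff (hF : Fintype.card F = 4) (m : ℕ) :
    (∃ x : PSp 2 F, orderOf x = m) ↔ (m ∣ 6 ∨ m ∣ 10 ∨ m ∣ 15 ∨ m ∣ 17 ∨ m ∣ 4) := by
  have h := Cfsg.Agent.H374.SpFour.mem_range_iff (F := F) (by rw [hF]; norm_num) m
  rw [ringChar_two hF, hF] at h
  simp only [Set.mem_range] at h
  rw [h, Cfsg.Agent.H374.Quad.Om]
  norm_num

theorem factorization_seventeen (hF : Fintype.card F = 4) : (Nat.card (PSp 2 F)).factorization 17 = 1 := by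
  have : Fact (Nat.Prime 17) := ⟨by norm_num⟩
  rw [card_four hF]
  exact factorization_eq_one (by norm_num) (by norm_num)

theorem card_centralizer (hF : Fintype.card F = 4) {x : PSp 2 F} (hx : orderOf x = 17) :
    Nat.card (Subgroup.centralizer ({x} : Set (PSp 2 F))) = 17 := by
  have : Fact (Nat.Prime 17) := ⟨by norm_num⟩
  have hfin : Finite (PSp 2 F) := Nat.finite_of_card_ne_zero (by rw [card_four hF]; norm_num)
  refine card_centralizer_of_orders (factorization_seventeen hF) (fun y hy => ?_) hx
  have h1 := (exists_order_iff hF (orderOf y)).1 ⟨y, rfl⟩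
  have h6 : ∀ k : ℕ, 17 ∣ orderOf y → orderOf y ∣ k → 17 ∣ k := fun k h h' => h.trans h'
  rcases h1 with h | h | h | h | h
  · exact absurd (hy.trans h) (by norm_num)
  · exact absurd (hy.trans h) (by norm_num)
  · exact absurd (hy.trans h) (by norm_num)
  · exact Nat.dvd_antisymm h hy
  · exact absurd (hy.trans h) (by norm_num)

theorem hasDZ_seventeen (hF : Fintype.card F = 4) : HasDZ 17 (PSp 2 F) := by
  have : Fact (Nat.Prime 17) := ⟨by norm_num⟩
  have hfin : Finite (PSp 2 F) := Nat.finite_of_card_ne_zero (by rw [card_four hF]; norm_num)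
  obtain ⟨x, hx⟩ : ∃ x : PSp 2 F, orderOf x = 17 := (exists_order_iff hF 17).2 (by norm_num)
  refine hasDZ_of_orders (factorization_seventeen hF) hx (card_centralizer hF hx) {1, 2, 3, 5, 6}
    (fun n hn => ⟨?_, ?_⟩) ?_
  · revert hn
    generalize n = m
    intro hm
    fin_cases hm <;> norm_num
  · refine (exists_order_iff hF n).2 ?_
    fin_cases hn <;> norm_num
  · rw [card_four hF]; decide

end field

section index

theorem pow_three_val : ∀ m : ZMod 17, m ≠ 0 → ∃ k : Fin 16, 3 ^ (k : ℕ) % 17 = m.val := by decide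

theorem orderOf_three : orderOf (3 : ZMod 17) = 16 := by
  rw [orderOf_eq_iff (by norm_num)]
  decide

variable {S : Type v} [Group S] [Finite S] {G : Type u} [Group G] [Finite G]

/-- the case of index four -/
theorem not_star_four (f : S →* G) (hf : Function.Injective f) (hN : f.range.Normal)
    (hi : f.range.index = 4) (hDZ : HasDZ 17 S) (hfac : (Nat.card S).factorization 17 = 1)
    (hmod : Nat.card S / 17 % 17 = 4) {y : S} (hy : orderOf y = 4) (hvy : VZ S y) :
    ¬ Cfsg.Agent.H713.Star G := by
  intro hstar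
  have hp : Fact (Nat.Prime 17) := ⟨by norm_num⟩
  have h17 : 17 ∣ Nat.card S := by
    have := Nat.ordProj_dvd (Nat.card S) 17
    rwa [hfac, pow_one] at this
  obtain ⟨x, hx⟩ := exists_prime_orderOf_dvd_card' (G := S) 17 h17
  -- the subgroup of index two
  obtain ⟨H, hHi, hSH⟩ : ∃ H : Subgroup G, H.index = 2 ∧ f.range ≤ H := by
    have hq : Nat.card (G ⧸ f.range) = 4 := hi
    have hpp : Fact (Nat.Prime 2) := ⟨Nat.prime_two⟩
    obtain ⟨K, hK⟩ := Sylow.exists_subgroup_card_pow_prime (G := G ⧸ f.range) 2 (n := 1) (by rw [hq]; norm_num)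
    refine ⟨K.comap (QuotientGroup.mk' f.range), ?_, ?_⟩
    · rw [Subgroup.index_comap_of_surjective _ (QuotientGroup.mk'_surjective _)]
      have := K.card_mul_index
      rw [hK, hq] at this
      omega
    · intro g hg
      rw [Subgroup.mem_comap, QuotientGroup.mk'_apply, (QuotientGroup.eq_one_iff g).2 hg]
      exact K.one_mem
  have hHn : H.Normal := Subgroup.normal_of_index_eq_two hHi
  -- defect zero in `G`
  have hcS : Nat.card f.range = Nat.card S := (Nat.card_congr (MonoidHom.ofInjective hf).toEquiv).symm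
  have hcG : Nat.card G = Nat.card S * 4 := by rw [← hcS, ← hi, Subgroup.card_mul_index]
  have hcH : Nat.card H = Nat.card S * 2 := by
    have := H.card_mul_index
    rw [hHi, hcG] at this
    omega
  have h1 : HasDZ 17 G := HasDZ.of_normal f.range (by rw [hi]; norm_num)
    (HasDZ.mulEquiv (MonoidHom.ofInjective hf) hDZ)
  have hfG : (Nat.card G).factorization 17 = 1 := by
    rw [hcG, Nat.factorization_mul Nat.card_pos.ne' (by norm_num), Finsupp.add_apply, hfac,
      Nat.factorization_eq_zero_of_not_dvd (by norm_num : ¬ 17 ∣ 4)]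
  have hfH : (Nat.card H).factorization 17 = 1 := by
    rw [hcH, Nat.factorization_mul Nat.card_pos.ne' (by norm_num), Finsupp.add_apply, hfac,
      Nat.factorization_eq_zero_of_not_dvd (by norm_num : ¬ 17 ∣ 2)]
  have hcent := hstar.centralizer_of_hasDZ h1 (by norm_num) hfG
    (x := f x) (by rw [orderOf_injective f hf, hx])
  -- the element in `H`
  let x' : H := ⟨f x, hSH ⟨x, rfl⟩⟩
  have hx' : orderOf x' = 17 := by
    rw [Subgroup.orderOf_mk, orderOf_injective f hf, hx]
  have hx1' : x' ^ 17 = 1 := by rw [← hx']; exact pow_orderOf_eq_one x'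
  have hcH' : Nat.card (Subgroup.centralizer ({x'} : Set H)) = 17 := by
    have h2 : Nat.card (Subgroup.centralizer ({x'} : Set H)) ∣ 17 := by
      rw [← hcent]
      let φ : Subgroup.centralizer ({x'} : Set H) →* Subgroup.centralizer ({f x} : Set G) :=
        (H.subtype.comp (Subgroup.centralizer ({x'} : Set H)).subtype).codRestrict _ (by
          rintro ⟨z, hz⟩
          have h3 := Subgroup.mem_centralizer_singleton_iff.1 hz
          exact Subgroup.mem_centralizer_singleton_iff.2 (congrArg Subtype.val h3))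
      refine Subgroup.card_dvd_of_injective φ ?_
      intro a b hab
      apply Subtype.ext
      apply Subtype.ext
      exact congrArg (fun z : Subgroup.centralizer ({f x} : Set G) => (z : G)) hab
    have h3 : 17 ∣ Nat.card (Subgroup.centralizer ({x'} : Set H)) := by
      have hm : x' ∈ Subgroup.centralizer ({x'} : Set H) := Subgroup.mem_centralizer_singleton_iff.2 rfl
      rw [← hx', ← Subgroup.orderOf_mk x' hm]
      exact orderOf_dvd_natCard _
    exact Nat.dvd_antisymm h2 h3
  have hfus := card_fus_mul hfH hx' (c := 1) (by rw [hcH', mul_one])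
  -- `x` and `x ^ 3` are conjugate in `G`
  have h3 : orderOf (x ^ 3) = 17 := by
    rw [orderOf_pow, hx]
    norm_num
  have hconj : IsConj (f x) (f (x ^ 3)) :=
    hstar.isConj (van_of_vz f hf hN (HasDZ.vz hDZ (by rw [hx]))) (van_of_vz f hf hN (HasDZ.vz hDZ (by rw [h3])))
      (d := 17) (by norm_num) (by rw [orderOf_injective f hf, hx]) (by rw [orderOf_injective f hf, h3])
      (orderOf_pos _)
  -- but not in `H`
  have hnot : ¬ IsConj x' (x' ^ 3) := by
    intro hc
    have hpow : ∀ k : ℕ, IsConj x' (x' ^ (3 ^ k)) := by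
      intro k
      induction k with
      | zero => rw [pow_zero, pow_one]
      | succ k ih =>
        have h4 := hc.pow (3 ^ k)
        rw [← pow_mul, ← pow_succ'] at h4
        exact ih.trans h4
    have hall : fus (p := 17) x' = Finset.univ.erase 0 := by
      ext m
      rw [mem_fus, Finset.mem_erase]
      refine ⟨fun h => ⟨h.1, Finset.mem_univ _⟩, fun h => ⟨h.1, ?_⟩⟩
      obtain ⟨k, hk⟩ : ∃ k : ℕ, 3 ^ k % 17 = m.val := by
        obtain ⟨k, hk⟩ := pow_three_val m h.1
        exact ⟨k, hk⟩
      have h5 := hpow k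
      rwa [← pow_mod_orderOf x' (3 ^ k), hx', hk] at h5
    rw [hall, Finset.card_erase_of_mem (Finset.mem_univ _), Finset.card_univ, ZMod.card, mul_one, hcH] at hfus
    have h4 : Nat.card S * 2 / 17 = Nat.card S / 17 * 2 := by
      obtain ⟨k, hk⟩ := h17
      rw [hk]
      omega
    rw [h4, Nat.ModEq] at hfus
    omega
  -- a conjugating element lies outside `H`
  have hconj' := hconj
  obtain ⟨g, hg⟩ := isConj_iff.1 hconj
  have hgH : g ∉ H := by
    intro h
    apply hnot
    refine isConj_iff.2 ⟨⟨g, h⟩, Subtype.ext ?_⟩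
    simpa [x'] using hg
  have hvg : Van G g := by
    refine SmallIndex.van_of_index_two H hHi (x := x') (y := x' ^ 3) hnot ?_ hgH
    simpa [x'] using hconj'
  -- its order is divisible by four
  have hord : 4 ∣ orderOf g := by
    have h4 : ∀ k : ℕ, g ^ k * f x * (g ^ k)⁻¹ = f x ^ (3 ^ k) := by
      intro k
      induction k with
      | zero => simp
      | succ k ih =>
        rw [pow_succ g k]
        calc g ^ k * g * f x * (g ^ k * g)⁻¹ = g ^ k * (g * f x * g⁻¹) * (g ^ k)⁻¹ := by group
          _ = g ^ k * (f x) ^ 3 * (g ^ k)⁻¹ := by rw [hg, map_pow]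
          _ = (g ^ k * f x * (g ^ k)⁻¹) ^ 3 := by rw [conj_pow]
          _ = _ := by rw [ih, ← pow_mul, pow_succ]
    have h5 := h4 (orderOf g)
    rw [pow_orderOf_eq_one, one_mul, inv_one, mul_one] at h5
    have h6 : f x ^ (3 ^ orderOf g % 17) = f x := by
      have h7 : orderOf (f x) = 17 := by rw [orderOf_injective f hf, hx]
      rw [← h7, pow_mod_orderOf, ← h5]
    have h7 : 3 ^ orderOf g % 17 = 1 := by
      have h8 : orderOf (f x) = 17 := by rw [orderOf_injective f hf, hx]
      have h9 : f x ^ (3 ^ orderOf g % 17) = f x ^ 1 := by rw [h6, pow_one]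
      rw [pow_inj_mod, h8] at h9
      simpa using h9
    have h8 : (3 : ZMod 17) ^ orderOf g = 1 := by
      have := congrArg (Nat.cast : ℕ → ZMod 17) h7
      simpa using this
    have h10 : 16 ∣ orderOf g := by
      rw [← orderOf_three]
      exact orderOf_dvd_of_pow_eq_one h8
    exact (by norm_num : 4 ∣ 16).trans h10
  -- contradiction with the element of order four
  have h5 : IsConj (f y) g := hstar.isConj (van_of_vz f hf hN hvy) hvg (d := 4) (by norm_num)
    (by rw [orderOf_injective f hf, hy]) hord (orderOf_pos _)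
  obtain ⟨c, hc⟩ := isConj_iff.1 h5
  exact hgH (hc ▸ hHn.conj_mem _ (hSH ⟨y, rfl⟩) c)

end index

theorem row {F : Type} [Field F] [Fintype F] (hF : Fintype.card F = 4) : Row.{u, 0} (PSp 2 F) := by
  have hp : Fact (Nat.Prime 17) := ⟨by norm_num⟩
  have hp2 : Fact (Nat.Prime 2) := ⟨Nat.prime_two⟩
  have hfin : Finite (PSp 2 F) := Nat.finite_of_card_ne_zero (by rw [card_four hF]; norm_num)
  obtain ⟨y, hy⟩ : ∃ x : PSp 2 F, orderOf x = 4 := (exists_order_iff hF 4).2 (by norm_num)
  have hsimple : IsSimpleGroup (PSp 2 F) := Cfsg.Agent.S0270.result 2 le_rfl fun _ => by rw [hF]; norm_num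
  have hsplit : FixBN.HasSplit 2 (PSp 2 F) := by
    refine H690.LieRow.hasSplit Nat.prime_two (Or.inr (Or.inl ?_))
    exact ⟨F, inferInstance, inferInstance, char_two hF, 2, le_rfl, fun _ => by rw [hF]; norm_num, ⟨MulEquiv.refl _⟩⟩
  have hvy : VZ (PSp 2 F) y := H690.LieGood.vz_of_hasSplit hsplit (by rw [hy]; norm_num)
  refine ⟨⟨y, by rw [hy]; norm_num, hvy⟩, fun G _ _ f hf hN hc => ?_⟩
  have hout : Nat.card (Out (PSp 2 F)) = 4 :=
    (Cfsg.Agent.S2600.result (F := F) (f := 2) (by norm_num) (by rw [hF]; norm_num)).2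
  have hd := SmallIndex.index_dvd_card_out f hf hN hc
  rw [hout] at hd
  have hd' : f.range.index = 1 ∨ f.range.index = 2 ∨ f.range.index = 4 := by
    have h1 := Nat.le_of_dvd (by norm_num) hd
    have h2 : f.range.index ≠ 0 := Subgroup.index_ne_zero_of_finite
    generalize f.range.index = d at *
    interval_cases d <;> omega
  by_cases h4 : f.range.index = 4
  · exact not_star_four f hf hN h4 (hasDZ_seventeen hF) (factorization_seventeen hF)
      (by rw [card_four hF]) hy hvy
  · refine not_star_of_dz (p := 17) (by norm_num) (factorization_seventeen hF) (hasDZ_seventeen hF) f hf hN ?_ ?_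
    · rcases hd' with h | h | h
      · rw [h]; norm_num
      · rw [h]; norm_num
      · exact absurd h h4
    · rw [card_four hF]
      rcases hd' with h | h | h
      · rw [h]; norm_num
      · rw [h]; norm_num
      · exact absurd h h4

end Cfsg.Agent.H714.PSpFour
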