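import Cfsg.Agent.H140.SLTwo
import Cfsg.Agent.ClassicalGeometry.PoleBridge
import Cfsg.Agent.ClassicalGeometry.PSL2Basic
import Cfsg.Agent.S2325
import Cfsg.Agent.TwoFusion.CyclicAut

/-!
# Tori, centralizers and classes of `PSL₂(q)`, `q` odd (helper714)

* `Tor T m` : `T` is a torus of `SL₂(F)` of order `2 m`;
* `Tor.card_centralizer` : centralizers in `PSL₂(F)` of elements of order at least three of a torus;
* `card_conjClasses_le` : `q + 4 ≤ 2 k(PSL₂(q))`;
* `cases` : every element of `PSL₂(F)` is conjugate into the image of the split torus, of the nonsplit torus, or of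
  order dividing the characteristic.
-/

set_option autoImplicit false
set_option linter.unusedSectionVars false

namespace Cfsg.Agent.H714.PslTor

open Matrix Matrix.SpecialLinearGroup MatrixGroups Cfsg.Agent.H140

variable {F : Type*} [Field F]

/-- the projection -/
abbrev pr (A : SL(2, F)) : ProjectiveSpecialLinearGroup (Fin 2) F := QuotientGroup.mk A

theorem pr_eq_one_iff {A : SL(2, F)} : pr A = 1 ↔ A = 1 ∨ A = -1 := by
  rw [QuotientGroup.eq_one_iff, Cfsg.Agent.ClassicalGeometry.PSL2Basic.mem_center_SL2_iff]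

theorem pr_eq_iff {A B : SL(2, F)} : pr A = pr B ↔ B = A ∨ B = -A := by
  rw [QuotientGroup.eq, Cfsg.Agent.ClassicalGeometry.PSL2Basic.mem_center_SL2_iff, inv_mul_eq_one, eq_comm]
  constructor
  · rintro (h | h)
    · exact Or.inl h
    · right
      rw [inv_mul_eq_iff_eq_mul] at h
      rw [h, mul_neg, mul_one]
  · rintro (h | h)
    · exact Or.inl h
    · right
      rw [h, mul_neg, inv_mul_cancel]

/-- a torus of `SL₂(F)` of order `2 m` -/
structure Tor (T : Subgroup SL(2, F)) (m : ℕ) : Prop where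
  cyc : IsCyclic T
  card : Nat.card T = 2 * m
  neg : (-1 : SL(2, F)) ∈ T
  cent : ∀ t ∈ T, t ≠ 1 → t ≠ -1 → ∀ g : SL(2, F), t * g = g * t → g ∈ T

theorem trace_ne_zero {A : SL(2, F)} (h : A * A ≠ -1) : (A : Matrix (Fin 2) (Fin 2) F).trace ≠ 0 := by
  intro h0
  apply h
  apply Subtype.ext
  have := Cfsg.Agent.ClassicalGeometry.PSL2Basic.sl2_mul_self A
  rw [h0, zero_smul, zero_sub] at this
  rw [Matrix.SpecialLinearGroup.coe_mul, this]
  simp

/-- lifting commutation -/
theorem comm_of_pr_comm (h2 : (2 : F) ≠ 0) {A B : SL(2, F)} (h : A * A ≠ -1) (hc : pr A * pr B = pr B * pr A) :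
    A * B = B * A := by
  have h1 : pr (A * B) = pr (B * A) := hc
  rw [pr_eq_iff] at h1
  rcases h1 with h1 | h1
  · exact h1.symm
  · exfalso
    apply trace_ne_zero h
    have h3 : B * A * B⁻¹ = -A := by rw [h1]; simp [mul_assoc]
    have h4 : ((B * A * B⁻¹ : SL(2, F)) : Matrix (Fin 2) (Fin 2) F).trace = (A : Matrix (Fin 2) (Fin 2) F).trace := by
      rw [Matrix.SpecialLinearGroup.coe_mul, Matrix.SpecialLinearGroup.coe_mul, Matrix.trace_mul_comm,
        ← Matrix.mul_assoc, ← Matrix.SpecialLinearGroup.coe_mul, inv_mul_cancel]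
      simp
    rw [h3, Matrix.SpecialLinearGroup.coe_neg, Matrix.trace_neg] at h4
    have h5 : (2 : F) * (A : Matrix (Fin 2) (Fin 2) F).trace = 0 := by linear_combination -h4
    rcases mul_eq_zero.1 h5 with h6 | h6
    · exact absurd h6 h2
    · exact h6

variable [Fintype F]

theorem finite_psl : Finite (ProjectiveSpecialLinearGroup (Fin 2) F) := inferInstance

/-- the image of a torus -/
def bar (T : Subgroup SL(2, F)) : Subgroup (ProjectiveSpecialLinearGroup (Fin 2) F) :=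
  T.map (QuotientGroup.mk' (Subgroup.center SL(2, F)))

theorem mem_bar {T : Subgroup SL(2, F)} {x : ProjectiveSpecialLinearGroup (Fin 2) F} :
    x ∈ bar T ↔ ∃ A ∈ T, pr A = x := Iff.rfl

theorem Tor.isCyclic_bar {T : Subgroup SL(2, F)} {m : ℕ} (h : Tor T m) : IsCyclic (bar T) := by
  have := h.cyc
  exact isCyclic_of_surjective ((QuotientGroup.mk' (Subgroup.center SL(2, F))).subgroupMap T)
    (MonoidHom.subgroupMap_surjective _ _)

theorem Tor.card_bar (h2 : (2 : F) ≠ 0) {T : Subgroup SL(2, F)} {m : ℕ} (h : Tor T m) : Nat.card (bar T) = m := by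
  classical
  set f : T →* ProjectiveSpecialLinearGroup (Fin 2) F :=
    (QuotientGroup.mk' (Subgroup.center SL(2, F))).comp T.subtype with hf
  have h1 : f.range = bar T := by
    rw [hf, MonoidHom.range_comp, Subgroup.range_subtype]
    rfl
  have h3 := Subgroup.card_mul_index f.ker
  rw [Subgroup.index_ker, h1, h.card] at h3
  have h4 : Nat.card f.ker = 2 := by
    have h5 : (f.ker : Set T) = {1, ⟨-1, h.neg⟩} := by
      ext t
      simp only [SetLike.mem_coe, MonoidHom.mem_ker, Set.mem_insert_iff, Set.mem_singleton_iff]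
      have : f t = pr (t : SL(2, F)) := rfl
      rw [this, pr_eq_one_iff]
      constructor
      · rintro (h | h)
        · exact Or.inl (Subtype.ext h)
        · exact Or.inr (Subtype.ext h)
      · rintro (h | h)
        · left; rw [h]; rfl
        · right; rw [h]
    have h6 : Nat.card f.ker = (f.ker : Set T).ncard := rfl
    rw [h6, h5, Set.ncard_pair]
    intro hc
    exact SLTwo.neg_one_ne_one h2 (congrArg Subtype.val hc).symm
  rw [h4] at h3
  omega

/-- centralizers of elements of order at least three of a torus -/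
theorem Tor.centralizer_le (h2 : (2 : F) ≠ 0) {T : Subgroup SL(2, F)} {m : ℕ} (h : Tor T m) {t : SL(2, F)}
    (ht : t ∈ T) (h1 : t * t ≠ 1) (h3 : t * t ≠ -1) :
    Subgroup.centralizer ({pr t} : Set (ProjectiveSpecialLinearGroup (Fin 2) F)) ≤ bar T := by
  intro y hy
  rw [Subgroup.mem_centralizer_singleton_iff] at hy
  obtain ⟨B, rfl⟩ := QuotientGroup.mk_surjective y
  have h4 := comm_of_pr_comm h2 h3 hy.symm
  refine mem_bar.2 ⟨B, h.cent t ht ?_ ?_ B h4, rfl⟩
  · rintro rfl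
    exact h1 (by simp)
  · rintro rfl
    exact h1 (by simp)

theorem Tor.card_centralizer (h2 : (2 : F) ≠ 0) {T : Subgroup SL(2, F)} {m : ℕ} (h : Tor T m) {t : SL(2, F)}
    (ht : t ∈ T) (h1 : t * t ≠ 1) (h3 : t * t ≠ -1) :
    Nat.card (Subgroup.centralizer ({pr t} : Set (ProjectiveSpecialLinearGroup (Fin 2) F))) ≤ m := by
  rw [← h.card_bar h2]
  exact Nat.card_le_card_of_injective _ (Subgroup.inclusion_injective (h.centralizer_le h2 ht h1 h3))

theorem Tor.orderOf_dvd (h2 : (2 : F) ≠ 0) {T : Subgroup SL(2, F)} {m : ℕ} (h : Tor T m)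
    {x : ProjectiveSpecialLinearGroup (Fin 2) F} (hx : x ∈ bar T) : orderOf x ∣ m := by
  have h1 := orderOf_dvd_natCard (⟨x, hx⟩ : bar T)
  rwa [h.card_bar h2, Subgroup.orderOf_mk] at h1

/-- elements of the same order of `bar T` generate the same subgroup -/
theorem Tor.zpowers_eq {T : Subgroup SL(2, F)} {m : ℕ} (h : Tor T m)
    {x y : ProjectiveSpecialLinearGroup (Fin 2) F} (hx : x ∈ bar T) (hy : y ∈ bar T) (ho : orderOf x = orderOf y) :
    Subgroup.zpowers x = Subgroup.zpowers y := by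
  have := h.isCyclic_bar
  have h1 := Cfsg.Agent.TwoFusion.CyclicAut.zpowers_eq_of_orderOf_eq (⟨x, hx⟩ : bar T) ⟨y, hy⟩
    (by rw [Subgroup.orderOf_mk, Subgroup.orderOf_mk, ho])
  have h2 := congrArg (Subgroup.map (bar T).subtype) h1
  simpa [MonoidHom.map_zpowers] using h2

/-! ### conjugacy classes -/

theorem card_conjClasses_le (hodd : Odd (Fintype.card F)) :
    Fintype.card F + 4 ≤ 2 * Nat.card (ConjClasses (ProjectiveSpecialLinearGroup (Fin 2) F)) := by
  classical
  rw [← Cfsg.Agent.S2325.result (F := F) hodd]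
  let φ : SL(2, F) →* ProjectiveSpecialLinearGroup (Fin 2) F := QuotientGroup.mk' (Subgroup.center SL(2, F))
  let f : ConjClasses SL(2, F) → ConjClasses (ProjectiveSpecialLinearGroup (Fin 2) F) := ConjClasses.map φ
  have := Fintype.ofFinite (ConjClasses SL(2, F))
  have := Fintype.ofFinite (ConjClasses (ProjectiveSpecialLinearGroup (Fin 2) F))
  rw [Nat.card_eq_fintype_card, Nat.card_eq_fintype_card, ← Finset.card_univ, ← Finset.card_univ]
  refine Finset.card_le_mul_card_image_of_maps_to (f := f) (fun _ _ => Finset.mem_univ _) 2 ?_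
  intro c _
  obtain ⟨x, rfl⟩ := ConjClasses.exists_rep c
  obtain ⟨A, rfl⟩ := QuotientGroup.mk_surjective x
  have hsub : (Finset.univ.filter fun C => f C = ConjClasses.mk (pr A)) ⊆ {ConjClasses.mk A, ConjClasses.mk (-A)} := by
    intro C hC
    obtain ⟨B, rfl⟩ := ConjClasses.exists_rep C
    have hC' : ConjClasses.mk (pr B) = ConjClasses.mk (pr A) := (Finset.mem_filter.1 hC).2
    rw [ConjClasses.mk_eq_mk_iff_isConj] at hC'
    obtain ⟨y, hy⟩ := isConj_iff.1 hC'
    obtain ⟨D, rfl⟩ := QuotientGroup.mk_surjective y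
    have h1 : pr (D * B * D⁻¹) = pr A := hy
    rw [pr_eq_iff] at h1
    rw [Finset.mem_insert, Finset.mem_singleton]
    rcases h1 with h1 | h1
    · left
      exact ConjClasses.mk_eq_mk_iff_isConj.2 (isConj_iff.2 ⟨D, h1.symm⟩)
    · right
      refine ConjClasses.mk_eq_mk_iff_isConj.2 (isConj_iff.2 ⟨D, ?_⟩)
      rw [h1, neg_neg]
  exact (Finset.card_le_card hsub).trans Finset.card_le_two

/-! ### the tori -/

theorem tor_split (hodd : Odd (Fintype.card F)) : Tor (SLTwo.split F) ((Fintype.card F - 1) / 2) where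
  cyc := inferInstance
  card := by
    rw [SLTwo.card_split]
    obtain ⟨k, hk⟩ := hodd
    omega
  neg := (SLTwo.split_data (SLTwo.two_ne_zero_of_odd hodd)).zT
  cent := (SLTwo.split_data (SLTwo.two_ne_zero_of_odd hodd)).cent

theorem exists_tor_nonsplit' (hodd : Odd (Fintype.card F)) :
    ∃ (T : Subgroup SL(2, F)) (s : SL(2, F)), Tor T ((Fintype.card F + 1) / 2) ∧
      (∀ t ∈ T, t ≠ 1 → t ≠ -1 → SLTwo.NoEig t) ∧ (∀ g, SLTwo.NoEig g → ∃ h, h * g * h⁻¹ ∈ T) ∧
      ∀ t ∈ T, s⁻¹ * t * s = t⁻¹ := by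
  obtain ⟨a, s, ha, hD, hN⟩ := SLTwo.exists_nonsplit (F := F) hodd
  have h5 : 4 ≤ orderOf a := by
    rw [ha]
    have : 1 < Fintype.card F := Fintype.one_lt_card
    obtain ⟨k, hk⟩ := hodd
    omega
  have ha1 : a ≠ 1 := by
    rintro rfl
    simp at h5
  have ha2 : a ≠ -1 := by
    rintro rfl
    have : orderOf (-1 : SL(2, F)) ∣ 2 := orderOf_dvd_of_pow_eq_one (by simp)
    have := Nat.le_of_dvd (by norm_num) this
    omega
  refine ⟨Subgroup.zpowers a, s, ⟨inferInstance, ?_, hD.zT, hD.cent⟩, hN, fun g hg => ?_, hD.inv⟩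
  · rw [Nat.card_zpowers, ha]
    obtain ⟨k, hk⟩ := hodd
    omega
  · exact SLTwo.conj_into_nonsplit hodd (hN a (Subgroup.mem_zpowers a) ha1 ha2)
      (fun g hg => hD.cent a (Subgroup.mem_zpowers a) ha1 ha2 g hg) hg

theorem exists_tor_nonsplit (hodd : Odd (Fintype.card F)) :
    ∃ T : Subgroup SL(2, F), Tor T ((Fintype.card F + 1) / 2) ∧
      (∀ t ∈ T, t ≠ 1 → t ≠ -1 → SLTwo.NoEig t) ∧ ∀ g, SLTwo.NoEig g → ∃ h, h * g * h⁻¹ ∈ T := by
  obtain ⟨T, s, h1, h2, h3, -⟩ := exists_tor_nonsplit' hodd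
  exact ⟨T, h1, h2, h3⟩

/-- elements with an eigenvector are conjugate to upper triangular ones -/
theorem exists_upper {A : SL(2, F)} {c : F} {v : Fin 2 → F} (hv : v ≠ 0)
    (h : (A : Matrix (Fin 2) (Fin 2) F).mulVec v = c • v) : ∃ P : SL(2, F), (P⁻¹ * A * P).1 1 0 = 0 := by
  have e0 : A.1 0 0 * v 0 + A.1 0 1 * v 1 = c * v 0 := by
    have := congrFun h 0
    simpa [Matrix.mulVec, dotProduct, Fin.sum_univ_two] using this
  have e1 : A.1 1 0 * v 0 + A.1 1 1 * v 1 = c * v 1 := by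
    have := congrFun h 1
    simpa [Matrix.mulVec, dotProduct, Fin.sum_univ_two] using this
  obtain ⟨P, hP0, hP1⟩ : ∃ P : SL(2, F), P.1 0 0 = v 0 ∧ P.1 1 0 = v 1 := by
    by_cases h0 : v 0 = 0
    · have h1 : v 1 ≠ 0 := by
        intro h1
        apply hv
        funext i
        fin_cases i
        · exact h0
        · exact h1
      exact ⟨SLTwo.mk (v 0) (-(v 1)⁻¹) (v 1) 0 (by field_simp; ring), rfl, rfl⟩
    · exact ⟨SLTwo.mk (v 0) 0 (v 1) (v 0)⁻¹ (by field_simp; ring), rfl, rfl⟩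
  refine ⟨P, ?_⟩
  rw [mul_assoc, SLTwo.mul10, SLTwo.inv10, SLTwo.inv11, SLTwo.mul00, SLTwo.mul10, hP0, hP1, e0, e1]
  ring

/-- upper triangular elements with different eigenvalues are conjugate to diagonal ones -/
theorem exists_diag {A : SL(2, F)} (h : A.1 1 0 = 0) (h1 : A.1 0 0 ≠ A.1 1 1) :
    ∃ P : SL(2, F), P * A * P⁻¹ ∈ SLTwo.split F := by
  have h2 : A.1 0 0 - A.1 1 1 ≠ 0 := sub_ne_zero.2 h1
  refine ⟨SLTwo.mk 1 (A.1 0 1 / (A.1 0 0 - A.1 1 1)) 0 1 (by ring), ?_⟩
  rw [SLTwo.mem_split]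
  constructor
  · rw [SLTwo.mul01, SLTwo.mul00, SLTwo.mul01, SLTwo.inv01, SLTwo.inv11]
    simp only [SLTwo.mk, Matrix.of_apply, Matrix.cons_val', Matrix.cons_val_zero, Matrix.cons_val_one,
      Matrix.cons_val_fin_one, h]
    field_simp
    ring
  · rw [SLTwo.mul10, SLTwo.mul10, SLTwo.mul11, SLTwo.inv00, SLTwo.inv10]
    simp [SLTwo.mk, h]

/-- the trichotomy -/
theorem cases (p : ℕ) [Fact p.Prime] [CharP F p] (T : Subgroup SL(2, F))
    (hT : ∀ g, SLTwo.NoEig g → ∃ h, h * g * h⁻¹ ∈ T) (x : ProjectiveSpecialLinearGroup (Fin 2) F) :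
    (∃ g, g * x * g⁻¹ ∈ bar (SLTwo.split F)) ∨ (∃ g, g * x * g⁻¹ ∈ bar T) ∨ x ^ p = 1 := by
  classical
  obtain ⟨A, rfl⟩ := QuotientGroup.mk_surjective x
  by_cases hN : SLTwo.NoEig A
  · right; left
    obtain ⟨h, hh⟩ := hT A hN
    exact ⟨pr h, h * A * h⁻¹, hh, rfl⟩
  · unfold SLTwo.NoEig at hN
    push Not at hN
    obtain ⟨c, v, hv, hvc⟩ := hN
    obtain ⟨P, hP⟩ := exists_upper hv hvc
    by_cases hd : (P⁻¹ * A * P).1 0 0 = (P⁻¹ * A * P).1 1 1
    · right; right
      have hdet := SLTwo.det_eq (P⁻¹ * A * P)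
      rw [hP, mul_zero, sub_zero, ← hd, ← sq] at hdet
      have h1 := (Cfsg.Agent.ClassicalGeometry.PoleBridge.pow_mem_center_iff p (P⁻¹ * A * P) hP).2 hdet
      have h2 : (P⁻¹ * A * P) ^ p = P⁻¹ * A ^ p * P := by
        have := conj_pow (i := p) (a := P⁻¹) (b := A)
        simpa using this
      rw [h2] at h1
      have h3 : A ^ p ∈ Subgroup.center SL(2, F) := by
        have := (Subgroup.instNormalCenter (G := SL(2, F))).conj_mem _ h1 P
        simpa [mul_assoc] using this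
      exact (QuotientGroup.eq_one_iff _).2 h3
    · left
      obtain ⟨Q, hQ⟩ := exists_diag hP hd
      refine ⟨pr (Q * P⁻¹), (Q * P⁻¹) * A * (Q * P⁻¹)⁻¹, ?_, rfl⟩
      have : Q * P⁻¹ * A * (Q * P⁻¹)⁻¹ = Q * (P⁻¹ * A * P) * Q⁻¹ := by group
      rw [this]
      exact hQ

end Cfsg.Agent.H714.PslTor
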