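import Cfsg.Agent.H714.VanSolv
import Cfsg.Agent.Characters.DegreeBounds
import Cfsg.Agent.CharactersDeep.SumRootsUnity

/-!
# The converse: a Frobenius group with commutative kernel and complement of order two

`isConj_of_vanish` : in such a group every element at which some irreducible character vanishes is conjugate to the involution
of the complement.
-/

set_option autoImplicit false

open scoped Pointwise
open Cfsg

namespace Cfsg.Agent.H714.VanConv

open Cfsg.Agent.H714.VanSolv

variable {G : Type*} [Group G] [Finite G]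

/-- An element of odd order at which an irreducible character of degree at most two does not vanish. -/
theorem ne_zero_of_odd {n : ℕ} (hn0 : 0 < n) (hn : n ≤ 2) (ρ : Representation ℂ G (Fin n → ℂ)) {x : G}
    (hx : Odd (orderOf x)) : ρ.character x ≠ 0 := by
  intro h0
  have hm : orderOf x ≠ 0 := (orderOf_pos x).ne'
  have hpow : (ρ x) ^ orderOf x = 1 := by rw [← map_pow, pow_orderOf_eq_one, map_one]
  obtain ⟨s, hs1, hs2, hs3⟩ := Cfsg.Agent.CharactersDeep.SumRootsUnity.exists_multiset_pow (ρ x) hm hpow
  rw [Module.finrank_fin_fun] at hs1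
  have h1 : s.sum = 0 := by
    have := hs3 1
    rw [pow_one] at this
    rw [show LinearMap.trace ℂ (Fin n → ℂ) (ρ x) = ρ.character x from rfl, h0] at this
    simpa using this.symm
  have hcase : n = 1 ∨ n = 2 := by omega
  rcases hcase with rfl | rfl
  · obtain ⟨z, rfl⟩ := Multiset.card_eq_one.1 hs1
    rw [Multiset.sum_singleton] at h1
    have := hs2 z (Multiset.mem_singleton_self z)
    rw [h1, zero_pow hm] at this
    exact zero_ne_one this
  · obtain ⟨z, w, rfl⟩ := Multiset.card_eq_two.1 hs1
    have hz := hs2 z (by simp)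
    have hw := hs2 w (by simp)
    have h2 : z + w = 0 := by simpa using h1
    rw [eq_neg_of_add_eq_zero_left h2, hx.neg_pow, hw] at hz
    norm_num at hz

/-- In a Frobenius group with commutative kernel and complement of order two the vanishing elements are the conjugates of
the involution of the complement. -/
theorem isConj_of_vanish {H : Subgroup G} (hH : Nat.card H = 2) (hF : IsFrobeniusComplement H)
    (hK : ∀ a ∈ frobeniusKernel H, ∀ b ∈ frobeniusKernel H, a * b = b * a) :
    ∃ t : G, ∀ x : G, (∃ χ : IrrCharacter G, (χ : G → ℂ) x = 0) → IsConj t x := by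
  classical
  obtain ⟨hbot, -, hTI⟩ := hF
  -- the involution
  obtain ⟨t, ht, ht1⟩ : ∃ t ∈ H, t ≠ 1 := by
    by_contra hc
    push Not at hc
    exact hbot ((Subgroup.eq_bot_iff_forall H).2 hc)
  have hmem : ∀ x ∈ H, x = 1 ∨ x = t := by
    intro x hx
    by_contra hc
    push Not at hc
    have hsub : ({1, t, x} : Finset G).card ≤ Nat.card H := by
      rw [← Nat.card_eq_finsetCard]
      refine Nat.card_le_card_of_injective (fun y => ⟨y.1, ?_⟩) (fun a b h => ?_)
      · have hy := y.2
        simp only [Finset.mem_insert, Finset.mem_singleton] at hy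
        rcases hy with h | h | h <;> rw [h]
        · exact H.one_mem
        · exact ht
        · exact hx
      · exact Subtype.ext (congrArg (fun z : ↥H => (z : G)) h)
    rw [hH, Finset.card_eq_three.2 ⟨1, t, x, ht1.symm, hc.1.symm, hc.2.symm, rfl⟩] at hsub
    omega
  have htt : t * t = 1 := by
    rcases hmem (t * t) (H.mul_mem ht ht) with h | h
    · exact h
    · exact absurd (mul_eq_left.1 h) ht1
  have hcen : ∀ g, Commute g t → g = 1 ∨ g = t := by
    intro g hg
    by_cases hgH : g ∈ H
    · exact hmem g hgH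
    · exfalso
      apply ht1
      rw [← Subgroup.mem_bot, ← hTI g hgH]
      refine ⟨ht, Subgroup.mem_smul_pointwise_iff_exists _ _ _ |>.2 ⟨t, ht, ?_⟩⟩
      rw [MulAut.smul_def, MulAut.conj_apply, hg.eq, mul_inv_cancel_right]
  have hconj2 : ∀ x, IsConj t x → x * x = 1 := by
    intro x hx
    obtain ⟨c, rfl⟩ := isConj_iff.1 hx
    rw [show c * t * c⁻¹ * (c * t * c⁻¹) = c * (t * t) * c⁻¹ by group, htt]
    group
  have hconj1 : ∀ x, IsConj t x → x ≠ 1 := by
    rintro x hx rfl
    exact ht1 (isConj_one_left.1 hx)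
  have hker : ∀ x, ¬ IsConj t x → x ∈ frobeniusKernel H := by
    intro x hx
    refine or_iff_not_imp_left.2 fun hx1 g hg => ?_
    obtain ⟨y, hy, hxy⟩ := Subgroup.mem_smul_pointwise_iff_exists _ _ _ |>.1 hg
    rw [MulAut.smul_def, MulAut.conj_apply] at hxy
    rcases hmem y hy with h | h
    · rw [h, mul_one, mul_inv_cancel] at hxy
      exact hx1 hxy.symm
    · rw [h] at hxy
      exact hx (isConj_iff.2 ⟨g, hxy⟩)
  have hcomm : ∀ a b, ¬ IsConj t a → ¬ IsConj t b → a * b = b * a := fun a b ha hb =>
    hK a (hker a ha) b (hker b hb)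
  -- counting
  have hC : Nat.card (Subgroup.centralizer ({t} : Set G)) = 2 := by
    rw [← hH]
    have : Subgroup.centralizer ({t} : Set G) = H := by
      ext g
      rw [Subgroup.mem_centralizer_singleton_iff]
      constructor
      · intro hg
        rcases hcen g hg with h | h
        · rw [h]; exact H.one_mem
        · rw [h]; exact ht
      · intro hg
        rcases hmem g hg with h | h
        · rw [h, one_mul, mul_one]
        · rw [h]
    rw [this]
  have hcl : Nat.card {u : G // IsConj t u} * 2 = Nat.card G := by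
    have := card_class_mul t
    rwa [hC] at this
  have hncl : Nat.card {u : G // ¬ IsConj t u} = Nat.card {u : G // IsConj t u} := by
    have h1 : Nat.card G = Nat.card {u : G // IsConj t u} + Nat.card {u : G // ¬ IsConj t u} := by
      have := Nat.card_congr (Equiv.sumCompl (fun u : G => IsConj t u)).symm
      rw [Nat.card_sum] at this
      exact this
    omega
  have hwell : ∀ u, IsConj t u → ¬ IsConj t (u * t) := by
    intro u hu hut
    have h1 := hconj2 _ hut
    have h2 := hconj2 _ hu
    have h3 : Commute u t := by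
      rw [commute_iff_eq]
      have : u * t = (u * t)⁻¹ := (inv_eq_of_mul_eq_one_left h1).symm
      rw [this, mul_inv_rev, inv_eq_of_mul_eq_one_left h2, inv_eq_of_mul_eq_one_left htt]
    rcases hcen u h3 with h | h
    · exact hconj1 u hu h
    · rw [h, htt] at hut
      exact hconj1 1 hut rfl
  have hsurj : ∀ x, ¬ IsConj t x → ∃ u, IsConj t u ∧ x = u * t := by
    let f : {u : G // IsConj t u} → {u : G // ¬ IsConj t u} := fun u => ⟨u.1 * t, hwell u.1 u.2⟩
    have hf : Function.Injective f := by
      intro a b h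
      have := congrArg Subtype.val h
      exact Subtype.ext (mul_right_cancel this)
    have hb := (hf.bijective_of_nat_card_le hncl.le).2
    intro x hx
    obtain ⟨u, hu⟩ := hb ⟨x, hx⟩
    exact ⟨u.1, u.2, (congrArg Subtype.val hu).symm⟩
  have hinv : ∀ x, ¬ IsConj t x → t * x * t = x⁻¹ := by
    intro x hx
    obtain ⟨u, hu, rfl⟩ := hsurj x hx
    rw [mul_inv_rev, inv_eq_of_mul_eq_one_left (hconj2 u hu), inv_eq_of_mul_eq_one_left htt, mul_assoc, mul_assoc,
      htt, mul_one]
  have hinv' : ∀ x, t * x * t = x⁻¹ → x * x = 1 → Commute x t := by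
    intro x h1 h2
    have h3 : x⁻¹ = x := inv_eq_of_mul_eq_one_left h2
    rw [h3] at h1
    rw [commute_iff_eq]
    calc x * t = (t * x * t) * t := by rw [h1]
      _ = t * x * (t * t) := by group
      _ = t * x := by rw [htt, mul_one]
  have hone : ¬ IsConj t 1 := fun h => hconj1 1 h rfl
  have hAinv : ∀ x, ¬ IsConj t x → ¬ IsConj t x⁻¹ := by
    intro x hx h
    apply hx
    have := hconj2 _ h
    have h4 : x⁻¹ = x := by
      rw [← mul_inv_rev, inv_eq_one] at this
      exact inv_eq_of_mul_eq_one_left this
    rwa [h4] at h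
  have hAmul : ∀ x y, ¬ IsConj t x → ¬ IsConj t y → ¬ IsConj t (x * y) := by
    intro x y hx hy hxy
    have h1 : t * (x * y) * t = (x * y)⁻¹ := by
      calc t * (x * y) * t = t * x * (t * t) * y * t := by rw [htt]; group
        _ = (t * x * t) * (t * y * t) := by group
        _ = x⁻¹ * y⁻¹ := by rw [hinv x hx, hinv y hy]
        _ = (x * y)⁻¹ := by rw [← mul_inv_rev, hcomm x y hx hy]
    rcases hcen _ (hinv' _ h1 (hconj2 _ hxy)) with h | h
    · exact hconj1 _ hxy h
    · have h2 : Commute x t := by
        rw [← h, commute_iff_eq, mul_assoc, hcomm x y hx hy]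
      rcases hcen x h2 with h3 | h3
      · rw [h3, one_mul] at h
        exact hy (h ▸ IsConj.refl t)
      · exact hx (h3 ▸ IsConj.refl t)
  let A : Subgroup G :=
    { carrier := {x | ¬ IsConj t x}
      mul_mem' := fun {x y} hx hy => hAmul x y hx hy
      one_mem' := hone
      inv_mem' := fun {x} hx => hAinv x hx }
  have hAidx : A.index = 2 := by
    have h1 := A.card_mul_index
    have h2 : Nat.card A = Nat.card {u : G // IsConj t u} := hncl
    rw [h2, ← hcl] at h1
    exact Nat.eq_of_mul_eq_mul_left (by
      have : Nat.card G ≠ 0 := Nat.card_pos.ne'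
      omega) h1
  refine ⟨t, fun x hx => ?_⟩
  by_contra hxA
  obtain ⟨⟨χ, n, ρ, hρ, rfl⟩, h0⟩ := hx
  have hρi : ρ.IsIrreducible := hρ
  have hle := Cfsg.Agent.Characters.DegreeBounds.finrank_le_index_of_comm ρ A
    (fun a ha b hb => hcomm a b ha hb)
  rw [Module.finrank_fin_fun, hAidx] at hle
  have hn0 : 0 < n := by
    rcases Nat.eq_zero_or_pos n with h | h
    · exfalso
      subst h
      exact Cfsg.Agent.Characters.Core.isIrr_ne_zero (χ := ρ.character) ⟨0, ρ, hρ, rfl⟩ (by
        funext g
        show LinearMap.trace ℂ (Fin 0 → ℂ) (ρ g) = 0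
        rw [show ρ g = 0 from LinearMap.ext fun v => Subsingleton.elim _ _, map_zero])
    · exact h
  refine ne_zero_of_odd hn0 hle ρ ?_ h0
  rw [← Nat.not_even_iff_odd]
  intro hev
  obtain ⟨k, hk⟩ := hev
  have hpos := orderOf_pos x
  have hz : (x ^ k) * (x ^ k) = 1 := by rw [← pow_add, ← hk, pow_orderOf_eq_one]
  have hzA : ¬ IsConj t (x ^ k) := A.pow_mem (x := x) hxA k
  rcases hcen _ (hinv' _ (hinv _ hzA) hz) with h | h
  · have := orderOf_dvd_of_pow_eq_one h
    have := Nat.le_of_dvd (by omega) this
    omega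
  · exact hzA (h ▸ IsConj.refl t)

end Cfsg.Agent.H714.VanConv
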