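import Cfsg.Agent.H714.AltFull
import Cfsg.Agent.S0252
import Cfsg.Agent.S0255
import Cfsg.Agent.S0256

/-!
# The rows of `PSL₂(4)`, `PSL₃(2)`, `PSL₄(2)` for S4943 (helper714)
-/

set_option autoImplicit false

namespace Cfsg.Agent.H714.SmallIso

open Cfsg Cfsg.Agent.H713

universe u v w

variable {F : Type v} [Field F] [Fintype F] {S : Type w} [Group S]

theorem row_psl_two_four (hF : Fintype.card F = 4) :
    Row.{u, v} (Matrix.ProjectiveSpecialLinearGroup (Fin 2) F) := by
  obtain ⟨e⟩ := Cfsg.Agent.S0252.result hF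
  exact Row.mulEquiv (AltFull.row_alt_full (le_refl 5)) e.symm

theorem row_psl_three_two (hF : Fintype.card F = 2) :
    Row.{u, v} (Matrix.ProjectiveSpecialLinearGroup (Fin 3) F) := by
  have : Fact (Nat.Prime 7) := ⟨by norm_num⟩
  obtain ⟨e⟩ := Cfsg.Agent.S0255.result (F := ZMod 7) (K := F) (ZMod.card 7) hF
  exact Row.mulEquiv (PslRow.row_psl_odd (by rw [ZMod.card]; decide) (by rw [ZMod.card]; norm_num)) e

theorem row_psl_four_two (hF : Fintype.card F = 2) :
    Row.{u, v} (Matrix.ProjectiveSpecialLinearGroup (Fin 4) F) := by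
  obtain ⟨e⟩ := Cfsg.Agent.S0256.result hF
  exact Row.mulEquiv (AltFull.row_alt_full (by norm_num : 5 ≤ 8)) e.symm

end Cfsg.Agent.H714.SmallIso
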