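import Cfsg.Agent.CharDeep.PowerDegrees
import Cfsg.Agent.CharactersDeep.AbelianQuotient
import Cfsg.Prelude.Def_Solvable
import Cfsg.Prelude.Def_Blocks

/-!
# Vanishing elements of distinct classes with coprime orders: the part of the proof with a solvable quotient

* `exists_van_off` : if `G'` is not perfect, some irreducible character vanishes off the kernel of a nontrivial
  linear character;
* `exists_frobenius` : if `G'` is not perfect and distinct classes of vanishing elements have coprime orders then `G` is a
  Frobenius group with commutative kernel and complement of order two;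
* `coprime_of_frobenius` : the converse.
-/

set_option autoImplicit false

open scoped ComplexConjugate Pointwise
open Cfsg

namespace Cfsg.Agent.H714.VanSolv

open Cfsg.Agent.Characters.Core Cfsg.Agent.Characters.Linear Cfsg.Agent.CharactersDeep.AbelianQuotient

variable {G : Type*} [Group G]

/-- A finite group that is not perfect has a nontrivial linear character. -/
theorem exists_hom_ne_one [Finite G] (h : commutator G ≠ ⊤) : ∃ l : G →* ℂˣ, l ≠ 1 := by
  have h1 : ∃ g : G, g ∉ commutator G := by
    by_contra hc
    push Not at hc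
    exact h (eq_top_iff.2 fun g _ => hc g)
  obtain ⟨g, hg⟩ := h1
  have h2 : (Abelianization.of g : Abelianization G) ≠ 1 := by
    intro hc
    apply hg
    rwa [← MonoidHom.mem_ker, Abelianization.ker_of] at hc
  have : Finite (Abelianization G) := Quotient.finite _
  obtain ⟨m, hm⟩ := CommGroup.exists_apply_ne_one_of_hasEnoughRootsOfUnity (Abelianization G) ℂ h2
  refine ⟨m.comp Abelianization.of, fun hc => hm ?_⟩
  have := DFunLike.congr_fun hc g
  simpa using this

/-- If `G'` is not perfect, some irreducible character vanishes off the kernel of a nontrivial linear character. -/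
theorem exists_van_off [Finite G] (h : commutator ↥(commutator G) ≠ ⊤) :
    ∃ (χ : IrrCharacter G) (l : G →* ℂˣ), l ≠ 1 ∧ ∀ g, l g ≠ 1 → (χ : G → ℂ) g = 0 := by
  classical
  let : Fintype G := Fintype.ofFinite G
  let : Fintype ↥(commutator G) := Fintype.ofFinite _
  obtain ⟨ψ, hψ⟩ := exists_hom_ne_one h
  obtain ⟨χ, hχ, hin⟩ := Cfsg.Agent.CharDeep.PowerDegrees.exists_irr_over (commutator G) (isIrrCharacter_hom ψ)
  obtain ⟨Λ, -, -, hΛ1, hΛ2⟩ := exists_linear_dual (G := G) (commutator G) (fun x y => by
    have := Subgroup.commutator_mem_commutator (Subgroup.mem_top x) (Subgroup.mem_top y)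
    simpa [commutator_def, commutatorElement_def] using this)
  obtain ⟨F, hF, key⟩ : ∃ F : Finset (G →* ℂˣ), (∀ l ∈ F, (fun g => (l g : ℂ)) * χ = χ) ∧
      classInner (fun n : ↥(commutator G) => χ n) (fun n : ↥(commutator G) => χ n) = (F.card : ℂ) :=
    ⟨_, fun l hl => (Finset.mem_filter.1 hl).2, classInner_restrict_self (commutator G) hχ Λ hΛ1 hΛ2⟩
  -- the number of linear characters fixing `χ` is at least two
  by_cases hcard : 1 < F.card
  · obtain ⟨l, hl, hl1⟩ : ∃ l ∈ F, l ≠ 1 := Finset.exists_mem_ne hcard 1
    refine ⟨⟨χ, hχ⟩, l, hl1, fun g hg => ?_⟩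
    have h1 := congrFun (hF l hl) g
    rw [Pi.mul_apply] at h1
    have h2 : ((l g : ℂ) - 1) * χ g = 0 := by
      rw [sub_mul, h1, one_mul, sub_self]
    rcases mul_eq_zero.1 h2 with h3 | h3
    · exfalso
      apply hg
      ext
      rw [Units.val_one]
      exact sub_eq_zero.1 h3
    · exact h3
  · exfalso
    -- then the restriction is irreducible, hence equal to `ψ`
    have hres : IsCharacter ↥(commutator G) (fun n : ↥(commutator G) => χ n) :=
      isCharacter_comp (commutator G).subtype (isIrr_isCharacter hχ)
    have hne : classInner (fun n : ↥(commutator G) => χ n) (fun n : ↥(commutator G) => χ n) ≠ 0 := by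
      intro h0
      have h1 := congrFun (classInner_self_eq_zero h0) 1
      exact isIrr_apply_one_ne_zero hχ (by simpa using h1)
    have hc1 : F.card = 1 := by
      have : F.card ≠ 0 := by
        intro h0
        apply hne
        rw [key, h0, Nat.cast_zero]
      omega
    rw [hc1, Nat.cast_one] at key
    have hirr : IsIrrCharacter ↥(commutator G) (fun n : ↥(commutator G) => χ n) :=
      isIrr_of_classInner_self hres key
    have heq : (fun n : ↥(commutator G) => χ n) = fun n => (ψ n : ℂ) := by
      by_contra hcon
      exact hin (classInner_irr_ne hirr (isIrrCharacter_hom ψ) hcon)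
    have hdeg : χ 1 = 1 := by
      have := congrFun heq 1
      simpa using this
    obtain ⟨μ, hμ⟩ := exists_hom_of_isIrrCharacter hχ hdeg
    apply hψ
    ext n
    have h1 : μ (n : G) = 1 := by
      have h2 : commutator G ≤ μ.ker := Abelianization.commutator_subset_ker μ
      exact h2 n.2
    have h2 := congrFun heq n
    rw [hμ] at h2
    simp only [h1] at h2
    simpa using h2.symm

/-! ### The Frobenius structure from one class off a subgroup of index two -/

theorem card_class_mul (t : G) :
    Nat.card {u : G // IsConj t u} * Nat.card (Subgroup.centralizer ({t} : Set G)) = Nat.card G := by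
  have e1 : {u : G | IsConj t u} = MulAction.orbit (ConjAct G) t := by
    rw [ConjAct.orbit_eq_carrier_conjClasses]
    ext u
    rw [Set.mem_ofPred_eq, ConjClasses.mem_carrier_iff_mk_eq, ConjClasses.mk_eq_mk_iff_isConj]
    exact isConj_comm
  have e2 : Nat.card (Subgroup.centralizer ({t} : Set G)) = Nat.card (MulAction.stabilizer (ConjAct G) t) := by
    rw [ConjAct.stabilizer_eq_centralizer]
    rfl
  have e3 : Nat.card {u : G // IsConj t u} = Nat.card (MulAction.orbit (ConjAct G) t) :=
    Nat.card_congr (Equiv.setCongr e1)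
  rw [e3, e2, ← Nat.card_prod]
  exact Nat.card_congr (MulAction.orbitProdStabilizerEquivGroup (ConjAct G) t)

/-- If all elements outside a subgroup `T` of index two are conjugate to `t` then `t` is an involution with
centraliser of order two, and `T` is commutative. -/
theorem of_one_class [Finite G] {T : Subgroup G} (hT : T.index = 2) {t : G} (ht : t ∉ T)
    (hcl : ∀ g, g ∉ T → IsConj t g) :
    orderOf t = 2 ∧ (∀ g, Commute g t → g = 1 ∨ g = t) ∧ ∀ a ∈ T, ∀ b ∈ T, a * b = b * a := by
  classical
  have hN : T.Normal := Subgroup.normal_of_index_eq_two hT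
  have hnot : ∀ g, IsConj t g → g ∉ T := by
    intro g hg hgT
    obtain ⟨c, hc⟩ := isConj_iff.1 hg
    apply ht
    have := hN.conj_mem g hgT c⁻¹
    rw [← hc] at this
    convert this using 1
    group
  have hcard : Nat.card {u : G // IsConj t u} = Nat.card T := by
    have e : Nat.card {u : G // IsConj t u} = Nat.card {u : G // u ∉ T} :=
      Nat.card_congr (Equiv.subtypeEquivRight fun u => ⟨hnot u, hcl u⟩)
    have h1 : Nat.card G = Nat.card T + Nat.card {u : G // u ∉ T} := by
      have := Nat.card_congr (Equiv.sumCompl (fun u : G => u ∈ T)).symm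
      rw [Nat.card_sum] at this
      exact this
    have h2 := T.card_mul_index
    rw [hT] at h2
    omega
  have hC : Nat.card (Subgroup.centralizer ({t} : Set G)) = 2 := by
    have h1 := card_class_mul t
    have h2 := T.card_mul_index
    rw [hT, ← h1, hcard] at h2
    exact (Nat.eq_of_mul_eq_mul_left Nat.card_pos h2).symm
  have ht1 : t ≠ 1 := fun h => ht (h ▸ T.one_mem)
  have hcen : ∀ g, Commute g t → g = 1 ∨ g = t := by
    intro g hg
    by_contra hc
    push Not at hc
    have hsub : ({1, t, g} : Finset G).card ≤ Nat.card (Subgroup.centralizer ({t} : Set G)) := by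
      rw [← Nat.card_eq_finsetCard]
      refine Nat.card_le_card_of_injective (fun x => ⟨x.1, ?_⟩) (fun a b h => ?_)
      · have hx := x.2
        rw [Subgroup.mem_centralizer_singleton_iff]
        simp only [Finset.mem_insert, Finset.mem_singleton] at hx
        rcases hx with h | h | h <;> rw [h]
        · simp
        · exact hg
      · exact Subtype.ext (congrArg (fun z : ↥(Subgroup.centralizer ({t} : Set G)) => (z : G)) h)
    rw [hC, Finset.card_eq_three.2 ⟨1, t, g, ht1.symm, hc.1.symm, hc.2.symm, rfl⟩] at hsub
    omega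
  have hsq : ∀ g, g ∉ T → g * g = 1 := by
    have h0 : t * t = 1 := by
      rcases hcen (t * t) (by rw [commute_iff_eq, mul_assoc]) with h | h
      · exact h
      · exact absurd (mul_eq_left.1 h) ht1
    intro g hg
    obtain ⟨c, rfl⟩ := isConj_iff.1 (hcl g hg)
    rw [show c * t * c⁻¹ * (c * t * c⁻¹) = c * (t * t) * c⁻¹ by group, h0]
    group
  have htt := hsq t ht
  have hinv : t⁻¹ = t := inv_eq_of_mul_eq_one_left htt
  have hact : ∀ a ∈ T, t * a * t = a⁻¹ := by
    intro a ha
    have h1 : t * a ∉ T := fun h => ht (by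
      have := T.mul_mem h (T.inv_mem ha)
      rwa [mul_inv_cancel_right] at this)
    have h2 := hsq _ h1
    rw [eq_inv_iff_mul_eq_one]
    rw [← h2]
    group
  refine ⟨?_, hcen, fun a ha b hb => ?_⟩
  · have : orderOf t ∣ 2 := orderOf_dvd_of_pow_eq_one (by rw [pow_two]; exact htt)
    rcases (Nat.dvd_prime Nat.prime_two).1 this with h | h
    · exact absurd (orderOf_eq_one_iff.1 h) ht1
    · exact h
  · have h1 := hact (a * b) (T.mul_mem ha hb)
    have h2 : t * (a * b) * t = (t * a * t) * (t * b * t) := by
      calc t * (a * b) * t = t * a * (t * t) * b * t := by rw [htt]; group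
        _ = _ := by group
    rw [h2, hact a ha, hact b hb] at h1
    have h3 := congrArg (·⁻¹) h1
    simp only [mul_inv_rev, inv_inv] at h3
    exact h3.symm

/-- **The solvable part.** If `G'` is not perfect and non-conjugate vanishing elements have coprime orders then `G` is a
Frobenius group with commutative kernel and complement of order two. -/
theorem exists_frobenius [Finite G] (h : commutator ↥(commutator G) ≠ ⊤)
    (hv : ∀ x y : G, (∃ χ : IrrCharacter G, (χ : G → ℂ) x = 0) → (∃ χ : IrrCharacter G, (χ : G → ℂ) y = 0) →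
      ¬ IsConj x y → Nat.Coprime (orderOf x) (orderOf y)) :
    ∃ H : Subgroup G, Nat.card H = 2 ∧ IsFrobeniusComplement H ∧
        ∀ a ∈ frobeniusKernel H, ∀ b ∈ frobeniusKernel H, a * b = b * a := by
  classical
  obtain ⟨χ, l, hl, hz⟩ := exists_van_off h
  have hcp : ∀ x y : G, l x ≠ 1 → l y ≠ 1 → ¬ Nat.Coprime (orderOf x) (orderOf y) → IsConj x y := by
    intro x y hx hy hn
    by_contra hc
    exact hn (hv x y ⟨χ, hz x hx⟩ ⟨χ, hz y hy⟩ hc)
  have hconj : ∀ x y : G, IsConj x y → l x = l y := by
    intro x y hxy
    obtain ⟨c, rfl⟩ := isConj_iff.1 hxy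
    rw [map_mul, map_mul, map_inv, mul_comm (l c), mul_inv_cancel_right]
  have hsq : ∀ x : G, l x ≠ 1 → l x = -1 := by
    intro x hx
    have h1 : IsConj x x⁻¹ := by
      apply hcp x x⁻¹ hx
      · rw [map_inv]
        exact fun h => hx (inv_eq_one.1 h)
      · rw [orderOf_inv, Nat.coprime_self]
        intro h
        apply hx
        rw [orderOf_eq_one_iff.1 h, map_one]
    have h2 := hconj _ _ h1
    rw [map_inv] at h2
    have h3 : l x * l x = 1 := by
      nth_rw 2 [h2]
      exact mul_inv_cancel _
    have h4 : ((l x : ℂ) - 1) * ((l x : ℂ) + 1) = 0 := by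
      have : (l x : ℂ) * (l x : ℂ) = 1 := by
        rw [← Units.val_mul, h3, Units.val_one]
      linear_combination this
    rcases mul_eq_zero.1 h4 with h5 | h5
    · exact absurd (Units.ext (by rw [Units.val_one]; exact sub_eq_zero.1 h5)) hx
    · ext
      rw [Units.val_neg, Units.val_one]
      linear_combination h5
  have heven : ∀ x : G, l x ≠ 1 → 2 ∣ orderOf x := by
    intro x hx
    have h1 : l x ^ orderOf x = 1 := by rw [← map_pow, pow_orderOf_eq_one, map_one]
    rw [hsq x hx] at h1
    rcases Nat.even_or_odd (orderOf x) with h2 | h2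
    · exact h2.two_dvd
    · rw [h2.neg_one_pow] at h1
      exact absurd (by rw [hsq x hx, h1]) hx
  have hall : ∀ x y : G, l x ≠ 1 → l y ≠ 1 → IsConj x y := by
    intro x y hx hy
    apply hcp x y hx hy
    intro hc
    have := Nat.dvd_gcd (heven x hx) (heven y hy)
    rw [hc.gcd_eq_one] at this
    omega
  obtain ⟨t, ht⟩ : ∃ t, l t ≠ 1 := by
    by_contra hc
    push Not at hc
    exact hl (MonoidHom.ext hc)
  have hidx : l.ker.index = 2 := by
    rw [Subgroup.index_ker]
    have : (l.range : Set ℂˣ) = {1, -1} := by
      ext z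
      constructor
      · rintro ⟨x, rfl⟩
        by_cases hx : l x = 1
        · rw [hx]; simp
        · rw [hsq x hx]; simp
      · rintro (rfl | rfl)
        · exact ⟨1, map_one l⟩
        · exact ⟨t, hsq t ht⟩
    rw [show Nat.card l.range = Nat.card (l.range : Set ℂˣ) from rfl, this, Nat.card_coe_set_eq,
      Set.ncard_pair]
    intro h
    exact ht (by rw [hsq t ht, ← h])
  obtain ⟨ho, hcen, hab⟩ := of_one_class hidx (t := t) (by rw [MonoidHom.mem_ker]; exact ht)
    (fun g hg => hall t g ht (by rwa [MonoidHom.mem_ker] at hg))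
  have ht1 : t ≠ 1 := fun h => ht (by rw [h, map_one])
  have hmem : ∀ x, x ∈ Subgroup.zpowers t → x = 1 ∨ x = t := by
    intro x hx
    obtain ⟨k, rfl⟩ := hx
    exact hcen _ ((Commute.refl t).zpow_left k)
  refine ⟨Subgroup.zpowers t, by rw [Nat.card_zpowers, ho], ⟨?_, ?_, ?_⟩, ?_⟩
  · rw [Ne, Subgroup.zpowers_eq_bot]
    exact ht1
  · intro htop
    -- then `G` has order two, so `G'` is trivial
    apply h
    have hcomm : commutator G = ⊥ := by
      rw [commutator_eq_bot_iff_center_eq_top, eq_top_iff]
      intro g _
      rw [Subgroup.mem_center_iff]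
      intro x
      obtain hg | hg := hmem g (htop ▸ Subgroup.mem_top g) <;> obtain hx | hx := hmem x (htop ▸ Subgroup.mem_top x) <;>
        rw [hg, hx] <;> simp
    rw [eq_top_iff]
    intro x _
    have h1 : (x : G) ∈ (⊥ : Subgroup G) := hcomm.le x.2
    rw [show x = 1 from Subtype.ext (Subgroup.mem_bot.1 h1)]
    exact Subgroup.one_mem _
  · intro g hg
    rw [eq_bot_iff]
    rintro x ⟨hx1, hx2⟩
    rw [Subgroup.mem_bot]
    rcases hmem x hx1 with h1 | h1
    · exact h1
    · exfalso
      obtain ⟨y, hy, hxy⟩ := Subgroup.mem_smul_pointwise_iff_exists _ _ _ |>.1 hx2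
      rw [MulAut.smul_def, MulAut.conj_apply] at hxy
      rcases hmem y hy with h2 | h2
      · rw [h2, mul_one, mul_inv_cancel] at hxy
        exact ht1 (h1 ▸ hxy.symm)
      · rw [h2, h1] at hxy
        have hc : Commute g t := by
          rw [commute_iff_eq]
          exact mul_inv_eq_iff_eq_mul.1 hxy
        rcases hcen g hc with h3 | h3
        · exact hg (h3 ▸ Subgroup.one_mem _)
        · exact hg (h3 ▸ Subgroup.mem_zpowers t)
  · have hker : ∀ a ∈ frobeniusKernel (Subgroup.zpowers t), a ∈ l.ker := by
      intro a ha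
      rcases ha with h1 | h1
      · rw [h1]; exact Subgroup.one_mem _
      · by_contra hc
        rw [MonoidHom.mem_ker] at hc
        obtain ⟨g, hg⟩ := isConj_iff.1 (hall t a ht hc)
        apply h1 g
        rw [← hg]
        exact Subgroup.mem_smul_pointwise_iff_exists _ _ _ |>.2 ⟨t, Subgroup.mem_zpowers t, rfl⟩
    intro a ha b hb
    exact hab a (hker a ha) b (hker b hb)

end Cfsg.Agent.H714.VanSolv
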